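import Cfsg.Agent.H198.IF.Step
import Cfsg.Agent.H100.IF.Four

/-!
# S5719, orthogonal groups, `q` odd: generation by involutions with `-1` space of dimension 2 (helper198)

`end_t2` : a subgroup `X` of `E Q` which contains an involution `t` with `-1` space of dimension 2 and, with every such
involution, all Siegel elements of its fixed space, is `E Q` (dimension at least 7).
-/

set_option autoImplicit false
set_option linter.unusedSectionVars false

namespace Cfsg.Agent.H198.IF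

open QuadraticMap Matrix Module
open Cfsg.Agent.LieClassical.OrthCore Cfsg.Agent.LieClassical.OrthTrans Cfsg.Agent.LieClassical.OrthSimple
open Cfsg.Agent.H989.Gs.Gen
open Cfsg.Agent.H989.Fx (Fund fund_ap)
open Cfsg.Agent.UGT.U2.FOne.Orth (Four tl)
open Cfsg.Agent.H112.Row2.OrthExt (QU QU_apply polar_QU)

variable {F V : Type*} [Field F] [AddCommGroup V] [Module F V] {Q : QuadraticForm F V}

/-- a square root of `-1` in `SL₂` -/
theorem exists_sq (F : Type*) [Field F] [Finite F] : ∃ c : SpecialLinearGroup (Fin 2) F, c * c = neg₂ F := by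
  obtain ⟨p, hp⟩ := CharP.exists F
  have hpp : Fact p.Prime := ⟨CharP.char_is_prime F p⟩
  obtain ⟨a, b, hab⟩ := CharP.sq_add_sq F p (-1)
  push_cast at hab
  refine ⟨⟨!![(a : F), b; b, -a], ?_⟩, ?_⟩
  · rw [Matrix.det_fin_two_of]
    linear_combination -hab
  · apply Subtype.ext
    change !![(a : F), b; b, -a] * !![(a : F), b; b, -a] = -1
    ext i j
    fin_cases i <;> fin_cases j
    · simp [Matrix.mul_apply, Fin.sum_univ_two]
      linear_combination hab
    · simp [Matrix.mul_apply, Fin.sum_univ_two]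
      ring
    · simp [Matrix.mul_apply, Fin.sum_univ_two]
      ring
    · simp [Matrix.mul_apply, Fin.sum_univ_two]
      linear_combination hab

/-- a vector orthogonal to the `-1` space is fixed -/
theorem mem_Fix_of_orth (hQ : Nondeg Q) (h2 : (2 : F) ≠ 0) {t : ↥(E Q)} (ht : t * t = 1) {v : V}
    (hv : ∀ w ∈ Neg t, polar Q v w = 0) : v ∈ Fix t := by
  have htt : ∀ v, ap t (ap t v) = v := fun v => by rw [← ap_mul, ht, ap_one]
  have hb : v - ap t v ∈ Neg t := by rw [mem_Neg, ap_sub, htt, neg_sub]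
  have h0 : v - ap t v = 0 := by
    apply hQ
    intro y
    obtain ⟨u, w, rfl⟩ := H112.Row2.OrthExt.exists_dec (isCompl h2 ht) y
    have h1 : polar Q (v - ap t v) (u : V) = 0 := by
      rw [polar_comm]
      exact orth h2 _ u.2 _ hb
    have h3 : polar Q (ap t v) (w : V) = 0 := by
      have h4 := polar_ap t (ap t v) (w : V)
      rw [htt, mem_Neg.1 w.2, polar_neg_right, hv _ w.2, neg_zero] at h4
      exact h4.symm
    rw [polar_add_right, h1, zero_add, polar_sub_left, hv _ w.2, h3, sub_zero]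
  rw [mem_Fix]
  exact (sub_eq_zero.1 h0).symm

/-- the restricted quadruple in the big space -/
theorem four_of_QU {D : Submodule F V} {e₁ f₁ e₂ f₂ : D} (h : Four (QU Q D) e₁ f₁ e₂ f₂) :
    Four Q (e₁ : V) (f₁ : V) (e₂ : V) (f₂ : V) where
  h1 := ⟨h.h1.left, h.h1.right, by rw [← polar_QU]; exact h.h1.pair⟩
  h2 := ⟨h.h2.left, h.h2.right, by rw [← polar_QU]; exact h.h2.pair⟩
  ee := by rw [← polar_QU]; exact h.ee
  ef := by rw [← polar_QU]; exact h.ef
  fe := by rw [← polar_QU]; exact h.fe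
  ff := by rw [← polar_QU]; exact h.ff

/-- a quadruple in a nondegenerate space of dimension at least 5 -/
theorem exists_four_mem [Finite F] [FiniteDimensional F V] {D : Submodule F V} (hD : Nondeg (QU Q D))
    (h5 : 5 ≤ finrank F D) : ∃ e₁ f₁ e₂ f₂ : D, Four Q (e₁ : V) (f₁ : V) (e₂ : V) (f₂ : V) := by
  have H0 : HS (QU Q D) (![] : Fin 0 → D) ![] :=
    ⟨fun i => i.elim0, fun i => i.elim0, fun i => i.elim0, fun i => i.elim0, fun i => i.elim0⟩
  obtain ⟨x₁, y₁, H1⟩ := H0.exists_cons hD (by omega)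
  obtain ⟨x₂, y₂, H2⟩ := H1.exists_cons hD (by omega)
  exact ⟨x₂, y₂, x₁, y₁, four_of_QU (H2.four (i := 0) (j := 1) (by decide))⟩

/-- the average of a vector under an involution -/
theorem avg_fix (h2 : (2 : F) ≠ 0) {t : ↥(E Q)} (ht : t * t = 1) (y : V) : (2 : F)⁻¹ • (y + ap t y) ∈ Fix t := by
  rw [mem_Fix, ap_smul, ap_add, ← ap_mul, ht, ap_one, add_comm]

theorem polar_avg (h2 : (2 : F) ≠ 0) {t : ↥(E Q)} {x : V} (hx : ap t x = x) (y : V) :
    polar Q x ((2 : F)⁻¹ • (y + ap t y)) = polar Q x y := by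
  have h1 := polar_ap t x y
  rw [hx] at h1
  rw [polar_smul_right, polar_add_right, h1, smul_eq_mul, ← two_mul, inv_mul_cancel_left₀ h2]

/-- **generation by involutions with `-1` space of dimension 2** -/
theorem end_t2 [Finite F] [FiniteDimensional F V] (h2 : (2 : F) ≠ 0) (hQ : Nondeg Q) (hN : 7 ≤ finrank F V)
    (X : Subgroup ↥(E Q)) {t : ↥(E Q)} (ht : t * t = 1) (hk : finrank F (Neg t) = 2) (htX : t ∈ X)
    (step : ∀ t : ↥(E Q), t * t = 1 → finrank F (Neg t) = 2 → t ∈ X → ∀ u w : V, Q u = 0 → polar Q u w = 0 →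
      ap t u = u → ap t w = w → S Q u w ∈ X) : X = ⊤ := by
  have hG : Good Q := LieClassical.OrthFinite.good_of_finite hQ (by omega)
  have hdt := Submodule.finrank_add_eq_of_isCompl (isCompl h2 ht)
  have hD : Nondeg (QU Q (Fix t)) := nondeg_QU hQ (isCompl h2 ht) (orth h2)
  obtain ⟨e₁, f₁, e₂, f₂, h⟩ := exists_four_mem hD (by omega)
  obtain ⟨c, hc⟩ := exists_sq F
  have te₁ : ap t (e₁ : V) = e₁ := e₁.2
  have tf₁ : ap t (f₁ : V) = f₁ := f₁.2
  have te₂ : ap t (e₂ : V) = e₂ := e₂.2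
  have tf₂ : ap t (f₂ : V) = f₂ := f₂.2
  -- the second involution
  have hX1 : h.rhoE c ∈ X := by
    apply rho_mem_of h
    · intro s
      exact step t ht hk htX _ _ h.h1.left (by rw [polar_smul_right, h.ef, smul_zero]) te₁ (by rw [ap_smul, tf₂])
    · intro s
      exact step t ht hk htX _ _ h.h2.left (by rw [polar_smul_right, polar_zero_of_comm h.fe, smul_zero]) te₂
        (by rw [ap_smul, tf₁])
  have hX2 : h.swap.rhoE c ∈ X := by
    apply rho_mem_of h.swap
    · intro s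
      exact step t ht hk htX _ _ h.h1.left (by rw [polar_smul_right, h.ee, smul_zero]) te₁ (by rw [ap_smul, te₂])
    · intro s
      exact step t ht hk htX _ _ h.h2.right (by rw [polar_smul_right, polar_zero_of_comm h.ff, smul_zero]) tf₂
        (by rw [ap_smul, tf₁])
  obtain ⟨t', ht'⟩ : ∃ t', t' = h.rhoE c * h.swap.rhoE c := ⟨_, rfl⟩
  have ht'X : t' ∈ X := by rw [ht']; exact X.mul_mem hX1 hX2
  obtain ⟨ht't', hk'⟩ := H100.IF.t2_mul h h2 hQ hc hc
  rw [← ht'] at ht't' hk'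
  have hdt' := Submodule.finrank_add_eq_of_isCompl (isCompl h2 ht't')
  -- the `-1` space of `t` is fixed by `t'`
  have hNF : Neg t ≤ Fix t' := by
    intro w hw
    have key : ∀ e, ap t e = e → polar Q e w = 0 := fun e he => orth h2 e (mem_Fix.2 he) w hw
    have p1 := key _ te₁
    have p2 := key _ tf₁
    have p3 := key _ te₂
    have p4 := key _ tf₂
    rw [mem_Fix, ht', ap_mul, rho_fix h.swap p1 p2 p4 p3, rho_fix h p1 p2 p3 p4]
  -- `t'` leaves the fixed space of `t` invariant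
  have hinv : ∀ u ∈ Fix t, ap t' u ∈ Fix t := by
    intro u hu
    refine mem_Fix_of_orth hQ h2 ht fun w hw => ?_
    have h1 := polar_ap t' u w
    rw [mem_Fix.1 (hNF hw), orth h2 u hu w hw] at h1
    exact h1
  -- a hyperbolic pair
  have hW : 3 ≤ finrank F ↥(Fix t ⊓ Fix t') := by
    have h1 := Submodule.finrank_sup_add_finrank_inf_eq (Fix t) (Fix t')
    have h3 := Submodule.finrank_le (Fix t ⊔ Fix t')
    omega
  obtain ⟨x, hxW, hx0, hx⟩ := LieClassical.OrthFinite.exists_sing_mem (Q := Q) (Fix t ⊓ Fix t') hW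
  obtain ⟨y₀, hy₀⟩ := Cfsg.Agent.LieClassical.OrthTrans.exists_hyp hQ hx hx0
  obtain ⟨y₁, hy₁⟩ : ∃ y₁, y₁ = (2 : F)⁻¹ • (y₀ + ap t y₀) := ⟨_, rfl⟩
  obtain ⟨y₂, hy₂⟩ : ∃ y₂, y₂ = (2 : F)⁻¹ • (y₁ + ap t' y₁) := ⟨_, rfl⟩
  have m1 : y₁ ∈ Fix t := by rw [hy₁]; exact avg_fix h2 ht y₀
  have m2 : y₂ ∈ Fix t' := by rw [hy₂]; exact avg_fix h2 ht't' y₁
  have m3 : y₂ ∈ Fix t := by
    rw [hy₂]
    exact (Fix t).smul_mem _ ((Fix t).add_mem m1 (hinv _ m1))
  have q1 : polar Q x y₁ = 1 := by rw [hy₁, polar_avg h2 (mem_Fix.1 hxW.1), hy₀.pair]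
  have q2 : polar Q x y₂ = 1 := by rw [hy₂, polar_avg h2 (mem_Fix.1 hxW.2), q1]
  have hxy : Hyp Q x (y₂ + (-Q y₂) • x) := by
    refine ⟨hx, ?_, ?_⟩
    · rw [Q_add, QuadraticMap.map_smul, hx, polar_smul_right, polar_comm Q y₂ x, q2]
      simp
    · rw [polar_add_right, polar_smul_right, polar_self_of_sing hx, q2]
      simp
  refine end_two hG hxy (Neg t) (Fix t) (Fix t') ?_ hNF hxW.1 ((Fix t).add_mem m3 ((Fix t).smul_mem _ hxW.1)) hxW.2
    ((Fix t').add_mem m2 ((Fix t').smul_mem _ hxW.2)) (fun u hu => orth h2 _ hxW.1 u hu)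
    (fun u hu => orth h2 _ ((Fix t).add_mem m3 ((Fix t).smul_mem _ hxW.1)) u hu) X ?_ ?_
  · rw [sup_comm]
    exact (isCompl h2 ht).sup_eq_top
  · intro u hu w hw h3 h4
    exact step t ht hk htX u w h3 h4 (mem_Fix.1 hu) (mem_Fix.1 hw)
  · intro u hu w hw h3 h4
    exact step t' ht't' hk' ht'X u w h3 h4 (mem_Fix.1 hu) (mem_Fix.1 hw)

end Cfsg.Agent.H198.IF
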